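import Cfsg.Agent.J4Rep94.S0.Check0
import Cfsg.Agent.J4Rep94.C1.Cert
import Cfsg.Agent.J4Rep94.C11.Cert
import Cfsg.Agent.J4Rep94.C12.Cert
import Cfsg.Agent.J4Rep94.C13.Cert
import Cfsg.Agent.J4Rep94.C14.Cert
import Cfsg.Agent.J4Rep94.C15.Cert
import Cfsg.Agent.J4Rep94.C16.Cert
import Cfsg.Agent.J4Rep94.C17.Cert
import Cfsg.Agent.J4Rep94.C18.Cert
import Cfsg.Agent.J4Rep94.C19.Cert
import Cfsg.Agent.J4Rep94.C20.Cert
import Cfsg.Agent.J4Rep94.C21.Cert
import Cfsg.Agent.J4Rep94.C22.Cert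
import Cfsg.Agent.J4Rep94.C23.Cert
import Cfsg.Agent.J4Rep94.C24.Cert
import Cfsg.Agent.J4Rep94.C3.Cert
import Cfsg.Agent.J4Rep94.C4.Cert
import Cfsg.Agent.J4Rep94.C5.Cert
import Cfsg.Agent.J4Rep94.C6.Cert
import Cfsg.Agent.J4Rep94.C7.Cert
import Cfsg.Agent.J4Rep94.C8.Cert
import Cfsg.Agent.J4Rep94.C9.Cert
import Cfsg.Agent.J4Rep94.S1.Cert
import Cfsg.Agent.J4Rep94.S4.Cert
import Cfsg.Agent.J4Rep94.Dihedral

/-!
# Certificate data
-/

set_option autoImplicit false
set_option maxRecDepth 100000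

namespace Cfsg.Agent.J4Rep94.S0

open Cfsg.Agent.CosetEnum

theorem dok0 : allRange sys.checkDef 0 2048 = true := by decide +kernel

theorem dok1 : allRange sys.checkDef 2048 2048 = true := by decide +kernel

theorem dok2 : allRange sys.checkDef 4096 2048 = true := by decide +kernel

theorem dok3 : allRange sys.checkDef 6144 2048 = true := by decide +kernel

theorem dok4 : allRange sys.checkDef 8192 2048 = true := by decide +kernel

theorem dok5 : allRange sys.checkDef 10240 2048 = true := by decide +kernel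

theorem dok6 : allRange sys.checkDef 12288 2048 = true := by decide +kernel

theorem dok7 : allRange sys.checkDef 14336 948 = true := by decide +kernel

def fchunks : List (ℕ × ℕ) := [(128, fv0), (128, fv1), (128, fv2), (128, fv3), (128, fv4), (128, fv5), (128, fv6), (128, fv7), (128, fv8), (128, fv9), (128, fv10), (128, fv11), (128, fv12), (128, fv13), (128, fv14), (128, fv15), (128, fv16), (88, fv17)]

theorem defsOK : sys.DefsOK 0 [2048,2048,2048,2048,2048,2048,2048,948] := ⟨dok0, dok1, dok2, dok3, dok4, dok5, dok6, dok7, trivial⟩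

theorem factsOK : sys.FactsOK 15284 fchunks := ⟨fok0, fok1, fok2, fok3, fok4, fok5, fok6, fok7, fok8, fok9, fok10, fok11, fok12, fok13, fok14, fok15, fok16, fok17, trivial⟩

theorem rules_ok : sys.rules.all (fun R => R.check sys rels subs) = true := by decide +kernel

theorem rels_one : ∀ W ∈ rels, evalWord val7 W = 1 :=
  List.forall_mem_append.2 ⟨val7_base, List.forall_mem_cons.2 ⟨C1.result_word, List.forall_mem_cons.2 ⟨C3.result_word, List.forall_mem_cons.2 ⟨C4.result_word, List.forall_mem_cons.2 ⟨C5.result_word, List.forall_mem_cons.2 ⟨C6.result_word, List.forall_mem_cons.2 ⟨C7.result_word, List.forall_mem_cons.2 ⟨C8.result_word, List.forall_mem_cons.2 ⟨C9.result_word, List.forall_mem_cons.2 ⟨C11.result_word, List.forall_mem_cons.2 ⟨C12.result_word, List.forall_mem_cons.2 ⟨C13.result_word, List.forall_mem_cons.2 ⟨C14.result_word, List.forall_mem_cons.2 ⟨C15.result_word, List.forall_mem_cons.2 ⟨C16.result_word, List.forall_mem_cons.2 ⟨C17.result_word, List.forall_mem_cons.2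 ⟨C18.result_word, List.forall_mem_cons.2 ⟨C19.result_word, List.forall_mem_cons.2 ⟨C20.result_word, List.forall_mem_cons.2 ⟨C21.result_word, List.forall_mem_cons.2 ⟨C22.result_word, List.forall_mem_cons.2 ⟨C23.result_word, List.forall_mem_cons.2 ⟨C24.result_word, List.forall_mem_cons.2 ⟨S1.result_word, List.forall_mem_cons.2 ⟨S4.result_word, List.forall_mem_nil _⟩⟩⟩⟩⟩⟩⟩⟩⟩⟩⟩⟩⟩⟩⟩⟩⟩⟩⟩⟩⟩⟩⟩⟩⟩

def wv : ℕ := 0x7768000030776f000040000200000077680776d0000b0000d0000f00011000130001500017000190001b0001d0001f00021000230002500027000290002b0002d0002f00031000330003500037000390003b089170003c0003a00038000360003400032000300002e0002c0002a00028000260002400022000200001e0001c0001a00018000160001400012000100000e0000c0000a0776c0000007768000030776f000040000200000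

theorem result_mem : evalWord val7 [0,2,0,1,0,1,0,2,0,2,0,1,0,2,0,1,0,1,0,2,0,2,0,1,0,2,0,1,0,1,0,2,0,2,0,1,0,2,0,1,0,1,0,2,0,2,0,1,0,2,0,1,0,1,0,2,0,2,0,1] ∈ wspan val7 subs :=
  mem_of_cert (val7_letters (S := sys) rfl (by decide +kernel)) rels_one subs rules_ok [2048,2048,2048,2048,2048,2048,2048,948] fchunks defsOK (by decide)
    factsOK (hfs := (by decide +kernel : 15284 + (fchunks.map Prod.fst).sum = 17548)) (L := 68) (v := wv) (by decide +kernel)

theorem result_word : evalWord val7 [0,2,0,1,0,1,0,2,0,2,0,1,0,2,0,1,0,1,0,2,0,2,0,1,0,2,0,1,0,1,0,2,0,2,0,1,0,2,0,1,0,1,0,2,0,2,0,1,0,2,0,1,0,1,0,2,0,2,0,1] = 1 :=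
  eq_one_of_mem_k24 result_mem (by decide +kernel)

end Cfsg.Agent.J4Rep94.S0
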